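import Mathlib.AlgebraicGeometry.Pullbacks
import Mathlib.AlgebraicGeometry.Morphisms.FinitePresentation
import Mathlib.RingTheory.Extension.Presentation.Core
import Mathlib.RingTheory.FinitePresentation
import Mathlib.RingTheory.FiniteType

/-!
# Absolute Noetherian approximation of an affine morphism of finite presentation
-/

universe u

set_option autoImplicit false
set_option backward.isDefEq.respectTransparency false

open AlgebraicGeometry CategoryTheory Limits TensorProduct

namespace Groth.Agent.FlatMorApprox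

/-- A finitely presented algebra has a model over a subring of finite type over `ℤ`. -/
theorem exists_model (A B : Type u) [CommRing A] [CommRing B] [Algebra A B]
    [Algebra.FinitePresentation A B] :
    ∃ (A₀ : Subalgebra ℤ A) (B₀ : Type u) (_ : CommRing B₀) (_ : Algebra A₀ B₀),
      A₀.FG ∧ Algebra.FinitePresentation A₀ B₀ ∧ Nonempty (A ⊗[A₀] B₀ ≃ₐ[A] B) := by
  let P := Algebra.Presentation.ofFinitePresentation A B
  refine ⟨P.core, P.ModelOfHasCoeffs P.Core, inferInstance,
    (inferInstance : Algebra P.Core (P.ModelOfHasCoeffs P.Core)),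
    ⟨P.finite_coeffs.toFinset, by simp [Algebra.Presentation.core]⟩, ?_,
    ⟨P.tensorModelOfHasCoeffsEquiv P.Core⟩⟩
  exact (inferInstance : Algebra.FinitePresentation P.Core (P.ModelOfHasCoeffs P.Core))

theorem exists_pullback_model {X S : Scheme.{u}} (f : X ⟶ S) [IsAffine X] [IsAffine S]
    [LocallyOfFinitePresentation f] :
    ∃ (A₀ B₀ : CommRingCat.{u}) (φ : A₀ ⟶ B₀) (g : S ⟶ Spec A₀) (g' : X ⟶ Spec B₀),
      φ.hom.FinitePresentation ∧ (algebraMap ℤ A₀).FiniteType ∧
      IsPullback g' f (Spec.map φ) g := by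
  algebraize [f.appTop.hom]
  have : Algebra.FinitePresentation Γ(S, ⊤) Γ(X, ⊤) :=
    (HasRingHomProperty.iff_of_isAffine (P := @LocallyOfFinitePresentation)).1 ‹_›
  obtain ⟨A₀, B₀, _, _, hA, hB, ⟨e⟩⟩ := exists_model Γ(S, ⊤) Γ(X, ⊤)
  have sq := (isPullback_SpecMap_of_isPushout _ _ _ _
    (CommRingCat.isPushout_tensorProduct A₀ Γ(S, ⊤) B₀)).flip
  let ε : X ≅ Spec (CommRingCat.of (Γ(S, ⊤) ⊗[A₀] B₀)) :=
    X.isoSpec ≪≫ Scheme.Spec.mapIso e.toRingEquiv.toCommRingCatIso.op
  refine ⟨.of A₀, .of B₀, CommRingCat.ofHom (algebraMap A₀ B₀),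
    S.isoSpec.hom ≫ Spec.map (CommRingCat.ofHom (algebraMap A₀ Γ(S, ⊤))),
    ε.hom ≫ Spec.map (CommRingCat.ofHom
      Algebra.TensorProduct.includeRight.toRingHom),
    RingHom.finitePresentation_algebraMap.2 hB, ?_, ?_⟩
  · rw [RingHom.ext_int (algebraMap ℤ (CommRingCat.of A₀)) (algebraMap ℤ A₀)]
    exact RingHom.finiteType_algebraMap.2 ((Subalgebra.fg_iff_finiteType A₀).1 hA)
  · refine sq.of_iso ε.symm (Iso.refl _) S.isoSpec.symm (Iso.refl _) ?_ ?_ ?_ ?_
    · simp
    · simp only [ε, Iso.trans_symm, Iso.trans_hom, Iso.symm_hom, Category.assoc]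
      rw [← Scheme.isoSpec_inv_naturality f, ← Category.assoc]
      congr 1
      simp only [Scheme.Spec_map, Functor.mapIso_inv, Iso.op_inv, Quiver.Hom.unop_op]
      rw [← Spec.map_comp]
      congr 1
      ext a
      exact (e.symm.commutes a).symm
    · simp
    · simp

end Groth.Agent.FlatMorApprox
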