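import Mathlib
import Groth.Agent.FlatMorApprox.Basic
import Groth.Agent.EGA43.Cons.Topological

/-!
Refining a Noetherian approximation so that a constructible condition on the base holds everywhere.
-/

universe u

set_option autoImplicit false
set_option backward.isDefEq.respectTransparency false

open AlgebraicGeometry CategoryTheory Limits Topology PrimeSpectrum

namespace Groth.Agent.FlatMorApprox

/-- A constructible set containing the image of `Spec A` contains the image of the spectrum of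
some finitely generated intermediate ring. -/
theorem exists_fg_refinement {A₀ A : Type u} [CommRing A₀] [CommRing A] (ι : A₀ →+* A)
    (hA₀ : (algebraMap ℤ A₀).FiniteType) (C : Set (PrimeSpectrum A₀)) (hC : IsConstructible C)
    (h : ∀ p : PrimeSpectrum A, PrimeSpectrum.comap ι p ∈ C) :
    ∃ (A₁ : Type u) (_ : CommRing A₁) (α : A₀ →+* A₁) (β : A₁ →+* A),
      β.comp α = ι ∧ (algebraMap ℤ A₁).FiniteType ∧
        ∀ p : PrimeSpectrum A₁, PrimeSpectrum.comap α p ∈ C := by
  classical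
  obtain ⟨S, hS⟩ := PrimeSpectrum.exists_constructibleSetData_iff.mpr hC.compl
  have hrad : ∀ D ∈ S, ι D.f ∈ (Ideal.span (Set.range (ι ∘ D.g))).radical := by
    intro D hD
    rw [Ideal.radical_eq_sInf, Submodule.mem_sInf]
    rintro (P : Ideal A) ⟨hle, hP⟩
    by_contra hf
    have hP' : PrimeSpectrum.comap ι ⟨P, hP⟩ ∈ Cᶜ := by
      rw [← hS]
      refine Set.mem_iUnion₂.2 ⟨D, hD, ?_, ?_⟩
      · rintro _ ⟨i, rfl⟩
        exact hle (Ideal.subset_span ⟨i, rfl⟩)
      · intro h'
        exact hf (h' (Set.mem_singleton _))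
    exact hP' (h _)
  choose n hn using hrad
  choose c hc using fun D hD => Ideal.mem_span_range_iff_exists_fun.1 (hn D hD)
  obtain ⟨G, hG⟩ : ∃ G : Finset A₀, Algebra.adjoin ℤ (G : Set A₀) = ⊤ :=
    (RingHom.finiteType_algebraMap.1 hA₀).out
  let T : Finset A := G.image ι ∪ S.attach.biUnion (fun D => Finset.univ.image (c D.1 D.2))
  let A₁ : Subalgebra ℤ A := Algebra.adjoin ℤ (T : Set A)
  have hι : ∀ a, ι a ∈ A₁ := by
    intro a
    have ha : a ∈ Algebra.adjoin ℤ (G : Set A₀) := hG ▸ Algebra.mem_top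
    have h1 : ι.toIntAlgHom a ∈ (Algebra.adjoin ℤ (G : Set A₀)).map ι.toIntAlgHom := ⟨a, ha, rfl⟩
    rw [AlgHom.map_adjoin] at h1
    exact Algebra.adjoin_mono (by
      rintro _ ⟨g, hg, rfl⟩
      exact Finset.mem_union_left _ (Finset.mem_image_of_mem _ hg)) h1
  let α : A₀ →+* A₁ := ι.codRestrict A₁ hι
  refine ⟨A₁, inferInstance, α, A₁.val.toRingHom, RingHom.ext fun a => rfl, ?_, fun p => ?_⟩
  · have : Algebra.FiniteType ℤ A₁ := (Subalgebra.fg_iff_finiteType A₁).1 ⟨T, rfl⟩
    rw [RingHom.ext_int (algebraMap ℤ A₁) (algebraMap ℤ A₁.toSubring)]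
    exact RingHom.finiteType_algebraMap.2 this
  · by_contra hp
    rw [← Set.mem_compl_iff, ← hS] at hp
    obtain ⟨D, hD, hg, hf⟩ := Set.mem_iUnion₂.1 hp
    have hc' : ∀ i, c D hD i ∈ A₁ := fun i => Algebra.subset_adjoin
      (Finset.mem_union_right _ (Finset.mem_biUnion.2
        ⟨⟨D, hD⟩, Finset.mem_attach _ _, Finset.mem_image_of_mem _ (Finset.mem_univ i)⟩))
    have heq : α D.f ^ n D hD = ∑ i, (⟨c D hD i, hc' i⟩ : A₁) * α (D.g i) := by
      apply Subtype.ext
      have h1 := hc D hD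
      push_cast
      exact h1.symm
    refine hf (Set.singleton_subset_iff.2 ?_)
    have hmem : α D.f ^ n D hD ∈ p.asIdeal := by
      rw [heq]
      exact Ideal.sum_mem _ fun i _ => Ideal.mul_mem_left _ _ (hg ⟨i, rfl⟩)
    exact p.isPrime.mem_of_pow_mem _ hmem

/-- Noetherian approximation of an affine morphism with a constructible fibrewise condition. -/
theorem exists_pullback_model_forall (P : MorphismProperty Scheme.{u})
    (hbc : ∀ {X X' Y Y' : Scheme.{u}} {g' : X' ⟶ X} {f' : X' ⟶ Y'} {f : X ⟶ Y} {g : Y' ⟶ Y},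
      IsPullback g' f' f g → LocallyOfFiniteType f → ∀ y', (P (f'.fiberToSpecResidueField y') ↔
        P (f.fiberToSpecResidueField (g y'))))
    (hP : ∀ {X Y : Scheme.{u}} (f : X ⟶ Y) [LocallyOfFinitePresentation f] [QuasiCompact f]
      [QuasiSeparated f],
      IsLocallyConstructible {y : Y | P (f.fiberToSpecResidueField y)})
    {X S : Scheme.{u}} (f : X ⟶ S) [IsAffine X] [IsAffine S] [LocallyOfFinitePresentation f]
    (hf : ∀ s, P (f.fiberToSpecResidueField s)) :
    ∃ (X₀ S₀ : Scheme.{u}) (f₀ : X₀ ⟶ S₀) (g : S ⟶ S₀) (g' : X ⟶ X₀),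
      IsAffine X₀ ∧ IsAffine S₀ ∧ IsPullback g' f f₀ g ∧ Algebra.FiniteType ℤ Γ(S₀, ⊤) ∧
      LocallyOfFiniteType f₀ ∧ ∀ s₀, P (f₀.fiberToSpecResidueField s₀) := by
  obtain ⟨A₀, B₀, φ, g, g', hφ, hA, h⟩ := exists_pullback_model f
  haveI : LocallyOfFinitePresentation (Spec.map φ) := HasRingHomProperty.Spec_iff.2 hφ
  obtain ⟨ι, hι⟩ := Spec.map_surjective (S.isoSpec.inv ≫ g)
  have hC : IsConstructible {p : Spec A₀ | P ((Spec.map φ).fiberToSpecResidueField p)} :=
    (hP (Spec.map φ)).isConstructible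
  obtain ⟨A₁, _, α, β, hαβ, hA₁, hall⟩ := exists_fg_refinement ι.hom hA _ hC (fun p => by
    have hgp : g (S.isoSpec.inv p) = PrimeSpectrum.comap ι.hom p := by
      show (S.isoSpec.inv ≫ g) p = _
      rw [← hι]
      rfl
    show P _
    rw [← hgp]
    exact (hbc h inferInstance (S.isoSpec.inv p)).1 (hf _))
  let a : Spec (CommRingCat.of A₁) ⟶ Spec A₀ := Spec.map (CommRingCat.ofHom α)
  let b : S ⟶ Spec (CommRingCat.of A₁) := S.isoSpec.hom ≫ Spec.map (CommRingCat.ofHom β)
  have hba : b ≫ a = g := by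
    simp only [b, a, Category.assoc, ← Spec.map_comp, ← CommRingCat.ofHom_comp, hαβ,
      CommRingCat.ofHom_hom, hι, Iso.hom_inv_id_assoc]
  let f₀ : pullback (Spec.map φ) a ⟶ Spec (CommRingCat.of A₁) := pullback.snd _ _
  let g₁ : X ⟶ pullback (Spec.map φ) a := pullback.lift g' (f ≫ b) (by
    rw [Category.assoc, hba, h.w])
  haveI hf₀ : LocallyOfFinitePresentation f₀ :=
    MorphismProperty.pullback_snd (P := @LocallyOfFinitePresentation.{u}) _ _ inferInstance
  have h₀ : IsPullback g₁ f f₀ b := by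
    refine IsPullback.of_right ?_ (pullback.lift_snd _ _ _) (IsPullback.of_hasPullback (Spec.map φ) a)
    rw [pullback.lift_fst, hba]
    exact h
  refine ⟨_, _, f₀, b, g₁, inferInstance, inferInstance, h₀, ?_, inferInstance, fun s₀ => ?_⟩
  · have h' := hA₁.comp_surjective (g := (Scheme.ΓSpecIso (CommRingCat.of A₁)).inv.hom)
      (ConcreteCategory.bijective_of_isIso (Scheme.ΓSpecIso (CommRingCat.of A₁)).inv).2
    rw [RingHom.ext_int ((Scheme.ΓSpecIso (CommRingCat.of A₁)).inv.hom.comp (algebraMap ℤ A₁))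
      (algebraMap ℤ _)] at h'
    exact RingHom.finiteType_algebraMap.1 h'
  · exact (hbc (IsPullback.of_hasPullback (Spec.map φ) a) inferInstance s₀).2 (hall s₀)

end Groth.Agent.FlatMorApprox
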